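import Mathlib

/-! The invariants of the lambda line are `k[j]`. -/

set_option autoImplicit false

open Polynomial

namespace LambdaJ

universe u

variable {k : Type u} [Field k]

/-- `j`. -/
noncomputable abbrev jInv (k : Type u) [Field k] : RatFunc k :=
  (256 : RatFunc k) * ((RatFunc.X : RatFunc k) ^ 2 - RatFunc.X + 1) ^ 3 /
        ((RatFunc.X : RatFunc k) ^ 2 * ((RatFunc.X : RatFunc k) - 1) ^ 2)

/-- The embedding of polynomials. -/
noncomputable abbrev ι : k[X] →ₐ[k] RatFunc k := Polynomial.aeval (RatFunc.X : RatFunc k)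

theorem ι_eq (P : k[X]) : ι P = algebraMap k[X] (RatFunc k) P := by
  show Polynomial.aeval RatFunc.X P = _
  rw [← RatFunc.algebraMap_X, Polynomial.aeval_algebraMap_apply, Polynomial.aeval_X_left_apply]

theorem ι_inj : Function.Injective (ι (k := k)) := fun P Q h => by
  rw [ι_eq, ι_eq] at h
  exact RatFunc.algebraMap_injective k h

theorem x_ne : (RatFunc.X : RatFunc k) ≠ 0 := RatFunc.X_ne_zero

theorem x1_ne : (RatFunc.X : RatFunc k) - 1 ≠ 0 := by
  have : ι (X - 1 : k[X]) ≠ ι 0 := ι_inj.ne (by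
    intro h; have := congrArg (eval 0) h; simp at this)
  simpa using this

theorem d_ne : (RatFunc.X : RatFunc k) * (RatFunc.X - 1) ≠ 0 := mul_ne_zero x_ne x1_ne

theorem exists_form {b : RatFunc k}
    (hb : b ∈ Algebra.adjoin k ({RatFunc.X, (RatFunc.X : RatFunc k)⁻¹, ((RatFunc.X : RatFunc k) - 1)⁻¹} : Set (RatFunc k))) :
    ∃ (m : ℕ) (P : k[X]), b * (RatFunc.X * (RatFunc.X - 1)) ^ m = ι P := by
  have hx := x_ne (k := k); have hx1 := x1_ne (k := k)
  induction hb using Algebra.adjoin_induction with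
  | mem y hy =>
    rcases hy with rfl | rfl | rfl
    · exact ⟨0, X, by simp⟩
    · exact ⟨1, X - 1, by simp [← mul_assoc, hx]⟩
    · exact ⟨1, X, by rw [pow_one, mul_left_comm, inv_mul_cancel₀ hx1]; simp⟩
  | algebraMap c => exact ⟨0, C c, by simp⟩
  | add y z _ _ hy hz =>
    obtain ⟨m, P, hP⟩ := hy; obtain ⟨n, Q, hQ⟩ := hz
    refine ⟨m + n, P * (X * (X - 1)) ^ n + Q * (X * (X - 1)) ^ m, ?_⟩
    simp only [map_add, map_mul, map_pow, map_sub, map_one, ← hP, ← hQ, ι, aeval_X]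
    ring
  | mul y z _ _ hy hz =>
    obtain ⟨m, P, hP⟩ := hy; obtain ⟨n, Q, hQ⟩ := hz
    refine ⟨m + n, P * Q, ?_⟩
    rw [map_mul, ← hP, ← hQ]
    ring

variable {σ τ : RatFunc k ≃ₐ[k] RatFunc k}

theorem j_fixed (hσ : σ RatFunc.X = (RatFunc.X : RatFunc k)⁻¹)
    (hτ : τ RatFunc.X = 1 - (RatFunc.X : RatFunc k)) : σ (jInv k) = jInv k ∧ τ (jInv k) = jInv k := by
  have hx := x_ne (k := k); have hx1 := x1_ne (k := k)
  have hx1' : 1 - (RatFunc.X : RatFunc k) ≠ 0 := sub_ne_zero.2 (sub_ne_zero.1 hx1).symm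
  constructor
  · simp only [jInv, map_div₀, map_mul, map_pow, map_sub, map_add, map_one, map_ofNat, hσ]
    have e1 : (RatFunc.X : RatFunc k)⁻¹ ^ 2 - RatFunc.X⁻¹ + 1 =
        (RatFunc.X ^ 2 - RatFunc.X + 1) / RatFunc.X ^ 2 := by field_simp; ring
    have e2 : (RatFunc.X : RatFunc k)⁻¹ - 1 = -(RatFunc.X - 1) / RatFunc.X := by field_simp; ring
    rw [e1, e2, inv_pow]
    field_simp
  · simp only [jInv, map_div₀, map_mul, map_pow, map_sub, map_add, map_one, map_ofNat, hτ]
    rw [show (1 - (RatFunc.X : RatFunc k)) ^ 2 - (1 - RatFunc.X) + 1 = RatFunc.X ^ 2 - RatFunc.X + 1 by ring,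
      show (1 - (RatFunc.X : RatFunc k)) ^ 2 * (1 - RatFunc.X - 1) ^ 2 =
        RatFunc.X ^ 2 * (RatFunc.X - 1) ^ 2 by ring]

theorem relations {m : ℕ} {P : k[X]} {b : RatFunc k}
    (hσ : σ RatFunc.X = (RatFunc.X : RatFunc k)⁻¹)
    (hτ : τ RatFunc.X = 1 - (RatFunc.X : RatFunc k))
    (hbσ : σ b = b) (hbτ : τ b = b) (hP : b * (RatFunc.X * (RatFunc.X - 1)) ^ m = ι P) :
    P.comp (1 - X) = P ∧ P.natDegree ≤ 3 * m ∧ P.coeff (3 * m) = (-1) ^ m * P.coeff 0 := by
  have hx := x_ne (k := k); have hx1 := x1_ne (k := k)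
  constructor
  · apply ι_inj
    have h := congrArg τ hP
    simp only [map_mul, map_pow, map_sub, map_one, hbτ, hτ] at h
    have e : τ (ι P) = ι (P.comp (1 - X)) := by
      rw [ι, aeval_comp, ← Polynomial.aeval_algHom_apply, hτ]
      simp
    rw [e] at h
    rw [← h, ← hP]
    ring
  set N := max P.natDegree (3 * m) with hN
  set R : k[X] := ∑ i ∈ Finset.range (N + 1), monomial (N - i) (P.coeff i) with hR
  have hRι : ι R = aeval ((RatFunc.X : RatFunc k)⁻¹) P * RatFunc.X ^ N := by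
    rw [hR, map_sum, aeval_eq_sum_range' (p := P) (n := N + 1) (by omega), Finset.sum_mul]
    refine Finset.sum_congr rfl fun i hi => ?_
    simp only [Finset.mem_range] at hi
    rw [ι, aeval_monomial, Algebra.smul_def, mul_assoc, inv_pow,
      pow_sub₀ _ hx (by omega : i ≤ N)]
    ring
  have h := congrArg σ hP
  simp only [map_mul, map_pow, map_sub, map_one, hbσ, hσ] at h
  rw [show σ (ι P) = aeval ((RatFunc.X : RatFunc k)⁻¹) P by
    rw [ι, ← Polynomial.aeval_algHom_apply, hσ]] at h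
  have key : R * ((-1) ^ m * X ^ (3 * m)) = P * X ^ N := by
    apply ι_inj
    simp only [map_mul]
    rw [hRι, ← h, ← hP]
    simp only [map_mul, map_pow, map_neg, map_one, aeval_X]
    have e : (((RatFunc.X : RatFunc k)⁻¹ * (RatFunc.X⁻¹ - 1)) ^ m) * (-1) ^ m * RatFunc.X ^ (3 * m) =
        (RatFunc.X * (RatFunc.X - 1)) ^ m := by
      rw [pow_mul, ← mul_pow, ← mul_pow]
      congr 1
      field_simp
      ring
    linear_combination b * RatFunc.X ^ N * e
  have hc : ∀ j, j ≤ N → R.coeff j = P.coeff (N - j) := fun j hj => by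
    rw [hR, finsetSum_coeff, Finset.sum_eq_single (N - j)]
    · rw [coeff_monomial, if_pos (by omega)]
    · intro i hi hij
      simp only [Finset.mem_range] at hi
      rw [coeff_monomial, if_neg (by omega)]
    · intro h'; exact absurd (Finset.mem_range.2 (by omega)) h'
  have hk : ∀ j, (R * ((-1) ^ m * X ^ (3 * m))).coeff (j + 3 * m) = (-1) ^ m * R.coeff j := fun j => by
    rw [← mul_assoc, coeff_mul_X_pow, show ((-1 : k[X]) ^ m) = C ((-1) ^ m) by simp, coeff_mul_C,
      mul_comm]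
  have hdeg : P.natDegree ≤ 3 * m := by
    by_contra hlt
    have hNn : N = P.natDegree := by omega
    have e0 := hk 0
    rw [key, hc 0 (Nat.zero_le _), zero_add, coeff_mul_X_pow', if_neg (by omega), Nat.sub_zero] at e0
    have hne : P.coeff N ≠ 0 := by
      rw [hNn]
      exact leadingCoeff_ne_zero.2 (by rintro rfl; simp at hlt)
    exact hne ((mul_eq_zero.1 e0.symm).resolve_left (pow_ne_zero _ (by norm_num)))
  refine ⟨hdeg, ?_⟩
  have hN' : N = 3 * m := by omega
  have e1 := hk (3 * m)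
  rw [key, hc _ (by omega), hN', coeff_mul_X_pow, Nat.sub_self] at e1
  exact e1

theorem main (h2 : (2 : k) ≠ 0) (hσ : σ RatFunc.X = (RatFunc.X : RatFunc k)⁻¹)
    (hτ : τ RatFunc.X = 1 - (RatFunc.X : RatFunc k)) :
    ∀ (m : ℕ) (P : k[X]) (b : RatFunc k), σ b = b → τ b = b →
      b * (RatFunc.X * (RatFunc.X - 1)) ^ m = ι P → b ∈ Algebra.adjoin k {jInv k} := by
  intro m
  induction m with
  | zero =>
    intro P b hbσ hbτ hP
    obtain ⟨-, hdeg, -⟩ := relations hσ hτ hbσ hbτ hP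
    rw [pow_zero, mul_one] at hP
    rw [hP, Polynomial.eq_C_of_natDegree_le_zero (p := P) (by simpa using hdeg), ι, aeval_C]
    exact Subalgebra.algebraMap_mem _ _
  | succ m ih =>
    have hz : ∀ (P : k[X]) (b : RatFunc k), σ b = b → τ b = b →
        b * (RatFunc.X * (RatFunc.X - 1)) ^ (m + 1) = ι P → P.coeff 0 = 0 →
        b ∈ Algebra.adjoin k {jInv k} := by
      intro P b hbσ hbτ hP h0
      obtain ⟨hc, -, -⟩ := relations hσ hτ hbσ hbτ hP
      obtain ⟨Q, rfl⟩ := X_dvd_iff.2 h0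
      have h1 : Q.eval 1 = 0 := by
        have := congrArg (eval 1) hc
        simpa using this.symm
      obtain ⟨Q', rfl⟩ := dvd_iff_isRoot.2 h1
      refine ih Q' b hbσ hbτ (mul_right_cancel₀ (d_ne (k := k)) ?_)
      rw [mul_assoc, ← pow_succ, hP]
      simp only [map_mul, map_sub, aeval_X, aeval_C, map_one]
      ring
    intro P b hbσ hbτ hP
    by_cases h0 : P.coeff 0 = 0
    · exact hz P b hbσ hbτ hP h0
    obtain ⟨hc, hdeg, htop⟩ := relations hσ hτ hbσ hbτ hP
    rcases Nat.even_or_odd (m + 1) with he | ho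
    · obtain ⟨r, hr⟩ := he
      set a := P.coeff 0 * ((256 : k) ^ r)⁻¹ with ha
      have h256 : (256 : k) ≠ 0 := by
        rw [show (256 : k) = 2 ^ 8 by norm_num]; exact pow_ne_zero _ h2
      obtain ⟨hjσ, hjτ⟩ := j_fixed hσ hτ
      have hmem : algebraMap k (RatFunc k) a * jInv k ^ r ∈ Algebra.adjoin k {jInv k} :=
        Subalgebra.mul_mem _ (Subalgebra.algebraMap_mem _ _)
          (Subalgebra.pow_mem _ (Algebra.subset_adjoin (Set.mem_singleton _)) _)
      suffices h : b - algebraMap k (RatFunc k) a * jInv k ^ r ∈ Algebra.adjoin k {jInv k} by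
        simpa using Subalgebra.add_mem _ h hmem
      refine hz (P - C (P.coeff 0) * (X ^ 2 - X + 1) ^ (3 * r)) _ ?_ ?_ ?_ ?_
      · rw [map_sub, map_mul, map_pow, hbσ, hjσ, AlgEquiv.commutes]
      · rw [map_sub, map_mul, map_pow, hbτ, hjτ, AlgEquiv.commutes]
      · rw [sub_mul, hP, map_sub]
        congr 1
        have hj : jInv k * (RatFunc.X * (RatFunc.X - 1)) ^ 2 =
            256 * ((RatFunc.X : RatFunc k) ^ 2 - RatFunc.X + 1) ^ 3 := by
          rw [jInv, mul_pow]
          exact div_mul_cancel₀ _ (mul_ne_zero (pow_ne_zero _ x_ne) (pow_ne_zero _ x1_ne))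
        have h256' : (256 : RatFunc k) ≠ 0 := by
          rw [← map_ofNat (algebraMap k (RatFunc k))]
          exact (_root_.map_ne_zero _).2 h256
        simp only [map_mul, map_pow, map_sub, map_add, map_one, aeval_X, aeval_C, ha, map_inv₀,
          map_ofNat]
        rw [hr, ← two_mul, pow_mul, mul_assoc (_ * _) (_ ^ r), ← mul_pow, hj, mul_pow, ← pow_mul _ 3,
          mul_assoc, inv_mul_cancel_left₀ (pow_ne_zero _ h256')]
      · simp [coeff_zero_eq_eval_zero]
    · exfalso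
      rw [ho.neg_one_pow, neg_one_mul] at htop
      have hne : P.coeff (3 * (m + 1)) ≠ 0 := by rw [htop]; exact neg_ne_zero.2 h0
      have hn : P.natDegree = 3 * (m + 1) := le_antisymm hdeg (le_natDegree_of_ne_zero hne)
      have h1 : (1 - X : k[X]).natDegree = 1 := by
        rw [← neg_sub, natDegree_neg, ← C_1, natDegree_X_sub_C]
      have hl := congrArg leadingCoeff hc
      rw [leadingCoeff_comp (by omega), show (1 - X : k[X]).leadingCoeff = -1 by
        rw [← neg_sub, leadingCoeff_neg, ← C_1, leadingCoeff_X_sub_C], hn,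
        Odd.neg_one_pow ((show Odd 3 by decide).mul ho)] at hl
      rw [leadingCoeff, hn] at hl
      have : (2 : k) * P.coeff (3 * (m + 1)) = 0 := by linear_combination -hl
      exact hne ((mul_eq_zero.1 this).resolve_left h2)

theorem invariants_eq (h2 : (2 : k) ≠ 0) (hσ : σ RatFunc.X = (RatFunc.X : RatFunc k)⁻¹)
    (hτ : τ RatFunc.X = 1 - (RatFunc.X : RatFunc k)) (b : RatFunc k) :
    (b ∈ Algebra.adjoin k ({RatFunc.X, (RatFunc.X : RatFunc k)⁻¹, ((RatFunc.X : RatFunc k) - 1)⁻¹} : Set (RatFunc k)) ∧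
        σ b = b ∧ τ b = b) ↔ b ∈ Algebra.adjoin k ({jInv k} : Set (RatFunc k)) := by
  constructor
  · rintro ⟨hb, hbσ, hbτ⟩
    obtain ⟨m, P, hP⟩ := exists_form hb
    exact main h2 hσ hτ m P b hbσ hbτ hP
  · intro hb
    obtain ⟨hjσ, hjτ⟩ := j_fixed hσ hτ
    induction hb using Algebra.adjoin_induction with
    | mem y hy =>
      rw [Set.mem_singleton_iff.1 hy]
      refine ⟨?_, hjσ, hjτ⟩
      rw [jInv, div_eq_mul_inv, mul_inv, ← inv_pow, ← inv_pow]
      set S := Algebra.adjoin k ({RatFunc.X, (RatFunc.X : RatFunc k)⁻¹, ((RatFunc.X : RatFunc k) - 1)⁻¹} : Set (RatFunc k))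
      have hX : (RatFunc.X : RatFunc k) ∈ S := Algebra.subset_adjoin (by simp)
      exact S.mul_mem (S.mul_mem (ofNat_mem S 256) (S.pow_mem (S.add_mem (S.sub_mem (S.pow_mem hX 2) hX) S.one_mem) 3))
        (S.mul_mem (S.pow_mem (Algebra.subset_adjoin (by simp)) 2) (S.pow_mem (Algebra.subset_adjoin (by simp)) 2))
    | algebraMap c => exact ⟨Subalgebra.algebraMap_mem _ _, σ.commutes c, τ.commutes c⟩
    | add y z _ _ hy hz =>
      exact ⟨Subalgebra.add_mem _ hy.1 hz.1, by simp [hy.2.1, hz.2.1], by simp [hy.2.2, hz.2.2]⟩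
    | mul y z _ _ hy hz =>
      exact ⟨Subalgebra.mul_mem _ hy.1 hz.1, by simp [hy.2.1, hz.2.1], by simp [hy.2.2, hz.2.2]⟩

end LambdaJ
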